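import Cfsg.Agent.Lib.Sporadic.FiTransfer.Model
import Cfsg.Agent.Lib.Sporadic.Fi22Out.Points
import Cfsg.Agent.S1686

/-!
# The transposition subgroup Ω₇(3) of the groups of type M(22)
-/

set_option autoImplicit false

open Cfsg.Spor
open CfsgLib.Sporadic.CosetCert
open CfsgLib.Sporadic.CosetCert.FiP.OutFi22 (gen_eq_dp dp_pt conj_dp)

namespace CfsgLib.Sporadic.FiTransfer.OmegaSeven

theorem tr_eq : FiP.tr = FiP.coding.gen 0 := FiP.coding.gen_code Fi22.Gen.a |>.symm

theorem dp_mem_classTr (p : Fin FiData.table.N) : FiP.OutFi22.dp p ∈ classTr := by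
  obtain ⟨c, hc⟩ := FiP.transitive p
  rw [FiP.OutFi22.dp_eq hc, ← tr_eq]
  exact classTr_conj mem_classTr_self

theorem gen_mem_classTr {x : ℕ} (hx : x < 9) : FiP.coding.gen x ∈ classTr :=
  gen_eq_dp x hx ▸ dp_mem_classTr _

/-- The subgroup generated by `b, …, i`. -/
noncomputable def sevenGrp : Subgroup Fi22 := FiP.sub [1, 2, 3, 4, 5, 6, 7, 8]

theorem sevenGrp_dsub : Cfsg.IsDSubgroup classTr sevenGrp := by
  refine le_antisymm ((Subgroup.closure_le _).2 fun x hx => hx.2) ?_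
  show Subgroup.closure _ ≤ _
  rw [Subgroup.closure_le]
  rintro _ ⟨i, hi, rfl⟩
  refine Subgroup.subset_closure ⟨gen_mem_classTr ?_, Subgroup.subset_closure ⟨i, hi, rfl⟩⟩
  have h : ∀ j ∈ [1, 2, 3, 4, 5, 6, 7, 8], j < 9 := by decide
  exact h i hi

theorem sevenGrp_iso :
    Nonempty (↥sevenGrp ≃* Cfsg.POmega (ZMod 3) (Cfsg.quadFormOdd 3 (ZMod 3))) := by
  obtain ⟨e⟩ := Cfsg.Agent.S1686.center_free
  exact ⟨O7P.equivOm.trans e⟩

/-- Sylow subgroups of a subgroup of index prime to `p` are Sylow subgroups. -/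
theorem sylow_of_index {G : Type*} [Group G] [Finite G] {p : ℕ} [hp : Fact p.Prime] {L : Subgroup G}
    (hi : ¬ p ∣ L.index) (P : Sylow p L) :
    ∃ P' : Sylow p G, (P : Subgroup L).map L.subtype = (P' : Subgroup G) := by
  refine ⟨Sylow.ofCard ((P : Subgroup L).map L.subtype) ?_, rfl⟩
  rw [Subgroup.card_map_of_injective L.subtype_injective, P.card_eq_multiplicity,
    ← L.card_mul_index, Nat.factorization_mul Nat.card_pos.ne' L.index_ne_zero_of_finite]
  simp [Nat.factorization_eq_zero_of_not_dvd hi]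

/-- The conclusion of the statement about the subgroup `Ω₇(3)`. -/
theorem omega_seven {G : Type*} [Group G] [Finite G] {D : Set G} (h : ModelIso G D) :
    ∃ L : Subgroup G, Cfsg.IsDSubgroup D L ∧
      Nonempty (↥L ≃* Cfsg.POmega (ZMod 3) (Cfsg.quadFormOdd 3 (ZMod 3))) ∧
      ∀ P : Sylow 3 ↥L, ∃ P' : Sylow 3 G, (P : Subgroup ↥L).map L.subtype = (P' : Subgroup G) := by
  obtain ⟨e, he⟩ := h
  obtain ⟨f⟩ := sevenGrp_iso
  refine ⟨sevenGrp.map e.symm.toMonoidHom, ?_, ?_, ?_⟩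
  · show Subgroup.closure _ = _
    conv_rhs => rw [← sevenGrp_dsub]
    rw [MonoidHom.map_closure]
    congr 1
    ext x
    simp only [Set.mem_ofPred_eq, Set.mem_image, MulEquiv.coe_toMonoidHom, Subgroup.mem_map]
    constructor
    · rintro ⟨hx, y, hy, rfl⟩
      exact ⟨y, ⟨by rwa [mem_iff_of_image e he, e.apply_symm_apply] at hx, hy⟩, rfl⟩
    · rintro ⟨y, ⟨hy, hy'⟩, rfl⟩
      exact ⟨by rw [mem_iff_of_image e he, e.apply_symm_apply]; exact hy, y, hy', rfl⟩
  · exact ⟨(Subgroup.equivMapOfInjective _ _ e.symm.injective).symm.trans f⟩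
  · refine sylow_of_index (hp := ⟨Nat.prime_three⟩) ?_
    rw [Subgroup.index_map_of_bijective e.symm.bijective, sevenGrp, FiP.index_O_eq]
    norm_num

end CfsgLib.Sporadic.FiTransfer.OmegaSeven
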